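import Groth.Prelude.Def_W4c2azumayainvolQEt
import Mathlib

/-!
# Quadratic etale algebras and involutions
-/

set_option autoImplicit false
set_option linter.style.haveILetI false

universe u v w

open TensorProduct

namespace Groth.Agent.RInvQuad

variable {S : Type u} {R : Type v} [CommRing S] [CommRing R] [Algebra S R]

section Inv

variable (lam : R ≃+* R) (hlam : Function.Involutive lam) (hS : RInv.IsFixedRing S R lam)

include hS in
theorem lam_algebraMap (s : S) : lam (algebraMap S R s) = algebraMap S R s := (hS.2 _).2 ⟨s, rfl⟩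

include hS in
theorem lam_smul (s : S) (x : R) : lam (s • x) = s • lam x := by
  rw [Algebra.smul_def, map_mul, lam_algebraMap lam hS, ← Algebra.smul_def]

include hlam hS in
/-- A unit of the form `r - lam r` gives the basis `1, r`. -/
theorem exists_coords {r : R} (hd : IsUnit (r - lam r)) (x : R) :
    ∃! ab : S × S, algebraMap S R ab.1 + algebraMap S R ab.2 * r = x := by
  obtain ⟨d, hd⟩ := hd
  have hld : lam (d : R) = -(d : R) := by rw [hd, map_sub, hlam, neg_sub]
  have hmi : lam (↑d⁻¹ : R) = -(↑d⁻¹ : R) := by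
    have h1 : lam (d : R) * lam (↑d⁻¹ : R) = 1 := by rw [← map_mul, Units.mul_inv, map_one]
    rw [hld] at h1
    calc lam (↑d⁻¹ : R) = -(↑d⁻¹ : R) * (-(d : R) * lam (↑d⁻¹ : R)) := by
          rw [← mul_assoc, neg_mul_neg, Units.inv_mul, one_mul]
      _ = -(↑d⁻¹ : R) := by rw [h1, mul_one]
  obtain ⟨b, hb⟩ := (hS.2 ((x - lam x) * (↑d⁻¹ : R))).1 (by
    rw [map_mul, map_sub, hlam, hmi]; ring)
  have hbd : algebraMap S R b * (r - lam r) = x - lam x := by
    rw [hb, ← hd, mul_assoc, Units.inv_mul, mul_one]
  obtain ⟨a, ha⟩ := (hS.2 (x - algebraMap S R b * r)).1 (by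
    rw [map_sub, map_mul, lam_algebraMap lam hS]
    linear_combination hbd)
  refine ⟨(a, b), ?_, fun ab hab => ?_⟩
  · dsimp only
    rw [ha]; ring
  · have h1 := congrArg lam hab
    rw [map_add, map_mul, lam_algebraMap lam hS, lam_algebraMap lam hS] at h1
    have h2 : algebraMap S R ab.2 * (r - lam r) = x - lam x := by linear_combination hab - h1
    have e2 : ab.2 = b := by
      apply hS.1
      have := h2.trans hbd.symm
      rw [← hd] at this
      exact d.mul_left_inj.1 this
    refine Prod.ext (hS.1 ?_) e2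
    dsimp only
    rw [ha, ← hab, e2]; ring

end Inv

theorem isQuadEtale_of_unit (lam : R ≃+* R) (hlam : Function.Involutive lam) (hS : RInv.IsFixedRing S R lam)
    {r : R} (hd : IsUnit (r - lam r)) : RInv.IsQuadEtale S R := by
  have hc := exists_coords lam hlam hS hd
  let L : (Fin 2 → S) →ₗ[S] R := (LinearMap.proj 0).smulRight (1 : R) + (LinearMap.proj 1).smulRight r
  have hL : ∀ g, L g = algebraMap S R (g 0) + algebraMap S R (g 1) * r := fun g => by simp [L, Algebra.smul_def]
  have hbij : Function.Bijective L := by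
    refine ⟨fun x y hxy => ?_, fun x => ?_⟩
    · rw [hL, hL] at hxy
      have h1 := (hc _).unique (y₁ := (x 0, x 1)) (y₂ := (y 0, y 1)) hxy rfl
      funext i
      fin_cases i
      · exact congrArg Prod.fst h1
      · exact congrArg Prod.snd h1
    · obtain ⟨⟨a, b⟩, hab, -⟩ := hc x
      exact ⟨![a, b], by rw [hL]; simpa using hab⟩
  let bs : Module.Basis (Fin 2) S R := Module.Basis.ofEquivFun (LinearEquiv.ofBijective L hbij).symm
  haveI := Module.Free.of_basis bs
  haveI := Module.Finite.of_basis bs
  refine ⟨inferInstance, inferInstance, ?_, fun p => ?_⟩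
  · have h0 : KaehlerDifferential.D S R r = 0 := by
      obtain ⟨t, ht⟩ := (hS.2 (r + lam r)).1 (by rw [map_add, hlam, add_comm])
      obtain ⟨n, hn⟩ := (hS.2 (r * lam r)).1 (by rw [map_mul, hlam, mul_comm])
      have e : r * r - algebraMap S R t * r + algebraMap S R n = 0 := by rw [ht, hn]; ring
      have h2 := congrArg (KaehlerDifferential.D S R) e
      rw [map_zero, map_add, map_sub, Derivation.leibniz, Derivation.leibniz, Derivation.map_algebraMap,
        Derivation.map_algebraMap, smul_zero, add_zero, add_zero, ← add_smul, ← sub_smul,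
        show r + r - algebraMap S R t = r - lam r by rw [ht]; ring] at h2
      exact (hd.smul_eq_zero).1 h2
    rw [Algebra.formallyUnramified_iff]
    refine subsingleton_of_forall_eq 0 fun ω => ?_
    have h1 : ω ∈ Submodule.span R (Set.range (KaehlerDifferential.D S R)) := by
      rw [KaehlerDifferential.span_range_derivation]; trivial
    refine (Submodule.mem_bot R).1 ((Submodule.span_le.2 ?_) h1)
    rintro _ ⟨x, rfl⟩
    obtain ⟨ab, hab, -⟩ := hc x
    simp [← hab, h0]
  · haveI : Nontrivial S := p.nontrivial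
    rw [Module.rankAtStalk_eq_finrank_of_free]
    simp [Module.finrank_eq_card_basis bs]

section Local

variable [IsLocalRing S]

theorem exists_basis_one (hinj : Function.Injective (algebraMap S R)) [Module.Finite S R] [Module.Free S R]
    (h2 : Module.finrank S R = 2) : ∃ b : Module.Basis (Fin 2) S R, b 0 = 1 := by
  haveI : Nontrivial R := hinj.nontrivial
  let e := Module.finBasisOfFinrankEq S R h2
  obtain ⟨i, hi⟩ : ∃ i, IsUnit (e.repr 1 i) := by
    by_contra hcon
    push Not at hcon
    have h1 : (1 : R) ∈ IsLocalRing.maximalIdeal S • (⊤ : Submodule S R) := by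
      rw [← e.sum_repr (1 : R)]
      exact Submodule.sum_mem _ fun i _ => Submodule.smul_mem_smul (hcon i) trivial
    rw [Ideal.smul_top_eq_map, Submodule.restrictScalars_mem] at h1
    have htop : IsLocalRing.maximalIdeal S • (⊤ : Submodule S R) = ⊤ := by
      rw [Ideal.smul_top_eq_map, (Ideal.eq_top_iff_one _).2 h1, Submodule.restrictScalars_top]
    exact top_ne_bot (Submodule.eq_bot_of_le_smul_of_le_jacobson_bot _ (⊤ : Submodule S R) Module.Finite.fg_top htop.ge
      (IsLocalRing.maximalIdeal_le_jacobson ⊥))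
  have hpair : ∀ i : Fin 2, Finset.univ = ({i, 1 - i} : Finset (Fin 2)) := by decide
  have hne : ∀ i : Fin 2, i ≠ 1 - i := by decide
  have h1 : (1 : R) = e.repr 1 i • e i + e.repr 1 (1 - i) • e (1 - i) := by
    conv_lhs => rw [← e.sum_repr (1 : R), hpair i, Finset.sum_pair (hne i)]
  let L : (Fin 2 → S) →ₗ[S] R := (LinearMap.proj 0).smulRight (1 : R) + (LinearMap.proj 1).smulRight (e (1 - i))
  have hsurj : Function.Surjective L := by
    intro x
    obtain ⟨c, hc⟩ := hi
    refine ⟨![e.repr x i * ↑c⁻¹, e.repr x (1 - i) - e.repr x i * ↑c⁻¹ * e.repr 1 (1 - i)], ?_⟩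
    conv_rhs => rw [← e.sum_repr x, hpair i, Finset.sum_pair (hne i)]
    simp only [L, LinearMap.add_apply, LinearMap.smulRight_apply, LinearMap.proj_apply, Matrix.cons_val_zero,
      Matrix.cons_val_one]
    rw [← hc] at h1
    generalize e.repr 1 (1 - i) = β at h1 ⊢
    rw [h1, smul_add, smul_smul, smul_smul, mul_assoc, Units.inv_mul, mul_one, sub_smul]
    abel
  have hbij : Function.Bijective L := by
    refine ⟨fun x y hxy => ?_, hsurj⟩
    have hinj' : Function.Injective (e.equivFun.toLinearMap.comp L) :=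
      OrzechProperty.injective_of_surjective_endomorphism _ (e.equivFun.surjective.comp hsurj)
    exact hinj' (congrArg e.equivFun hxy)
  refine ⟨Module.Basis.ofEquivFun (LinearEquiv.ofBijective L hbij).symm, ?_⟩
  rw [Module.Basis.coe_ofEquivFun, LinearEquiv.symm_symm]
  change L (Pi.single 0 1) = 1
  simp [L]

variable (lam : R ≃+* R) (hlam : Function.Involutive lam) (hS : RInv.IsFixedRing S R lam)

include hlam hS in
theorem exists_sub_isUnit (hq : RInv.IsQuadEtale S R) : ∃ r : R, IsUnit (r - lam r) := by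
  obtain ⟨_, _, hunr, hrank⟩ := hq
  haveI := hunr
  haveI : Module.Free S R := Module.free_of_flat_of_isLocalRing
  have h2 : Module.finrank S R = 2 := by
    have := hrank ⟨IsLocalRing.maximalIdeal S, inferInstance⟩
    rw [Module.rankAtStalk_eq_finrank_of_free] at this
    simpa using this
  haveI : Nontrivial R := hS.1.nontrivial
  obtain ⟨b, hb⟩ := exists_basis_one hS.1 h2
  set r := b 1 with hr
  have hx : ∀ x : R, x = algebraMap S R (b.repr x 0) + algebraMap S R (b.repr x 1) * r := fun x => by
    conv_lhs => rw [← b.sum_repr x, Fin.sum_univ_two, hb]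
    simp [Algebra.smul_def, hr]
  have hcoord : ∀ a c : S, b.repr (algebraMap S R a + algebraMap S R c * r) 1 = c := fun a c => by
    rw [Algebra.algebraMap_eq_smul_one a, ← Algebra.smul_def, ← hb, hr, map_add, map_smul, map_smul,
      Module.Basis.repr_self, Module.Basis.repr_self]
    simp
  set p := b.repr (r * r) 1 with hp
  set q := b.repr (r * r) 0 with hq'
  have hrr : r * r = algebraMap S R q + algebraMap S R p * r := hx (r * r)
  -- the derivative of the minimal polynomial is a unit
  have hc : IsUnit (2 * r - algebraMap S R p) := by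
    let I : Ideal R := Ideal.span {2 * r - algebraMap S R p}
    let L : R →ₗ[S] R ⧸ I := (Ideal.Quotient.mkₐ S I).toLinearMap.comp
      ((Algebra.linearMap S R).comp (b.coord 1))
    have hL : ∀ x, L x = Ideal.Quotient.mk I (algebraMap S R (b.repr x 1)) := fun x => rfl
    let D : Derivation S R (R ⧸ I) := Derivation.mk' L fun x y => by
      have hxy : x * y = algebraMap S R (b.repr x 0 * b.repr y 0 + b.repr x 1 * b.repr y 1 * q) +
          algebraMap S R (b.repr x 0 * b.repr y 1 + b.repr x 1 * b.repr y 0 + b.repr x 1 * b.repr y 1 * p) * r := by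
        conv_lhs => rw [hx x, hx y]
        simp only [map_add, map_mul]
        linear_combination (algebraMap S R (b.repr x 1) * algebraMap S R (b.repr y 1)) * hrr
      rw [hL, hxy, hcoord, hL, hL, Algebra.smul_def, Algebra.smul_def, Ideal.Quotient.algebraMap_eq, ← map_mul, ← map_mul,
        ← map_add, Ideal.Quotient.eq, Ideal.mem_span_singleton']
      refine ⟨-(algebraMap S R (b.repr x 1) * algebraMap S R (b.repr y 1)), ?_⟩
      simp only [map_add, map_mul]
      linear_combination (algebraMap S R (b.repr y 1)) * hx x + (algebraMap S R (b.repr x 1)) * hx y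
    have hD : D = 0 := by
      refine Derivation.ext fun x => ?_
      rw [← D.liftKaehlerDifferential_comp_D x,
        ((Algebra.formallyUnramified_iff S R).1 hunr).elim (KaehlerDifferential.D S R x) 0, map_zero]
      rfl
    have h1 : D r = 0 := by rw [hD]; rfl
    have h2 : Ideal.Quotient.mk I (1 : R) = 0 := by
      have : D r = Ideal.Quotient.mk I (algebraMap S R (b.repr r 1)) := hL r
      rwa [h1, hr, Module.Basis.repr_self, Finsupp.single_eq_same, map_one, eq_comm] at this
    exact Ideal.span_singleton_eq_top.1 ((Ideal.eq_top_iff_one _).2 (Ideal.Quotient.eq_zero_iff_mem.1 h2))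
  set c := 2 * r - algebraMap S R p with hcdef
  set d := r - lam r with hd
  set e := lam r + r - algebraMap S R p with he
  have hl : lam r * lam r = algebraMap S R q + algebraMap S R p * lam r := by
    rw [← map_mul, hrr, map_add, map_mul, lam_algebraMap lam hS, lam_algebraMap lam hS]
  have hed : e * d = 0 := by rw [he, hd]; linear_combination hrr - hl
  have hce : c = e + d := by rw [hcdef, he, hd]; ring
  have hle : lam e = e := by rw [he, map_sub, map_add, hlam, lam_algebraMap lam hS]; ring
  obtain ⟨u, hu⟩ := hc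
  have hεfix : lam (e * (↑u⁻¹ : R)) = e * (↑u⁻¹ : R) := by
    have hlc : lam c = e - d := by rw [hce, map_add, hle, hd, map_sub, hlam]; ring
    have hll : lam (↑u⁻¹ : R) * lam (u : R) = 1 := by rw [← map_mul, Units.inv_mul, map_one]
    rw [hu, hlc] at hll
    rw [map_mul, hle]
    have hui : (↑u⁻¹ : R) * c = 1 := by rw [← hu, Units.inv_mul]
    calc e * lam (↑u⁻¹ : R) = e * lam (↑u⁻¹ : R) * ((↑u⁻¹ : R) * c) := by rw [hui, mul_one]
      _ = e * (↑u⁻¹ : R) * (lam (↑u⁻¹ : R) * (e - d)) := by
          rw [hce]; linear_combination (2 * lam (↑u⁻¹ : R) * (↑u⁻¹ : R)) * hed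
      _ = e * (↑u⁻¹ : R) := by rw [hll, mul_one]
  obtain ⟨ε, hε⟩ := (hS.2 _).1 hεfix
  have hεi : IsIdempotentElem ε := by
    apply hS.1
    rw [map_mul, hε]
    have : e * e = e * c := by rw [hce]; linear_combination -hed
    calc e * (↑u⁻¹ : R) * (e * (↑u⁻¹ : R)) = (e * e) * ((↑u⁻¹ : R) * ↑u⁻¹) := by ring
      _ = e * (↑u⁻¹ : R) := by
          rw [this, ← hu, show e * (u : R) * ((↑u⁻¹ : R) * ↑u⁻¹) = e * (↑u⁻¹ : R) * ((u : R) * ↑u⁻¹) by ring,
            Units.mul_inv, mul_one]
  have hε01 : ε = 0 ∨ ε = 1 := by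
    rcases IsLocalRing.isUnit_or_isUnit_one_sub_self ε with h | h
    · exact Or.inr ((h.mul_eq_left).1 hεi)
    · exact Or.inl ((h.mul_left_eq_zero).1 (by rw [mul_sub, mul_one, hεi, sub_self]))
  rcases hε01 with h | h
  · refine ⟨r, ?_⟩
    rw [h, map_zero] at hε
    have he0 : e = 0 := by simpa using (congrArg (· * (u : R)) hε).symm
    rw [← hd, ← show c = d by rw [hce, he0, zero_add], ← hu]
    exact u.isUnit
  · exfalso
    rw [h, map_one] at hε
    have he1 : e = c := by
      have := congrArg (· * (u : R)) hε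
      simp at this
      rw [← hu]; exact this.symm
    have hd0 : d = 0 := by linear_combination -he1 - hce
    have hfix : lam r = r := (sub_eq_zero.1 (hd ▸ hd0)).symm
    obtain ⟨s, hs⟩ := (hS.2 r).1 hfix
    have h1 := hcoord s 0
    rw [map_zero, zero_mul, add_zero, hs, hr, Module.Basis.repr_self, Finsupp.single_eq_same] at h1
    exact one_ne_zero h1

include hlam hS in
theorem hilbert90 (hq : RInv.IsQuadEtale S R) (r : Rˣ) (hr : lam r * r = 1) :
    ∃ a : Rˣ, (r : R) = (a⁻¹ : Rˣ) * lam a := by
  obtain ⟨t, ht⟩ := exists_sub_isUnit lam hlam hS hq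
  have hri : lam (r : R) = (↑r⁻¹ : R) := (Units.eq_inv_of_mul_eq_one_left (by rw [mul_comm]; exact hr))
  have hri' : lam (↑r⁻¹ : R) = (r : R) := by rw [← hri, hlam]
  let a : R → R := fun x => x + (↑r⁻¹ : R) * lam x
  have ha : ∀ x, lam (a x) = r * a x := fun x => by
    simp only [a, map_add, map_mul, hlam x, hri']
    rw [mul_add, ← mul_assoc, Units.mul_inv, one_mul, add_comm]
  suffices h : ∃ x, IsUnit (a x) by
    obtain ⟨x, u, hu⟩ := h
    refine ⟨u, ?_⟩
    rw [hu, ha x, ← hu, mul_comm (r : R), ← mul_assoc, Units.inv_mul, one_mul]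
  by_contra hcon
  push Not at hcon
  have hm : ∀ x, a x * a x ∈ (IsLocalRing.maximalIdeal S).map (algebraMap S R) := fun x => by
    obtain ⟨s, hs⟩ := (hS.2 (lam (a x) * a x)).1 (by rw [map_mul, hlam, mul_comm])
    have hsm : s ∈ IsLocalRing.maximalIdeal S := fun hsu =>
      hcon x (isUnit_of_mul_isUnit_right (x := lam (a x)) (hs ▸ hsu.map (algebraMap S R)))
    have h1 := Ideal.mul_mem_left ((IsLocalRing.maximalIdeal S).map (algebraMap S R)) (↑r⁻¹ : R)
      (Ideal.mem_map_of_mem (algebraMap S R) hsm)
    rwa [hs, ha x, ← mul_assoc, ← mul_assoc, Units.inv_mul, one_mul] at h1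
  have hcop : IsCoprime (a 1) (a t) := by
    obtain ⟨w, hw⟩ := (r⁻¹).isUnit.mul ht
    refine ⟨(↑w⁻¹ : R) * t, -(↑w⁻¹ : R), ?_⟩
    have : a 1 * t - a t = (↑r⁻¹ : R) * (t - lam t) := by simp only [a, map_one, mul_one]; ring
    calc (↑w⁻¹ : R) * t * a 1 + -(↑w⁻¹ : R) * a t = (↑w⁻¹ : R) * (a 1 * t - a t) := by ring
      _ = 1 := by rw [this, ← hw, Units.inv_mul]
  have hne : (IsLocalRing.maximalIdeal S).map (algebraMap S R) ≠ ⊤ := fun htop => by
    haveI : Module.Finite S R := hq.1
    haveI : Nontrivial R := hS.1.nontrivial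
    have htop' : IsLocalRing.maximalIdeal S • (⊤ : Submodule S R) = ⊤ := by
      rw [Ideal.smul_top_eq_map, htop, Submodule.restrictScalars_top]
    exact top_ne_bot (Submodule.eq_bot_of_le_smul_of_le_jacobson_bot _ (⊤ : Submodule S R) Module.Finite.fg_top htop'.ge
      (IsLocalRing.maximalIdeal_le_jacobson ⊥))
  obtain ⟨c₁, c₂, hc⟩ := hcop.pow (m := 2) (n := 2)
  apply hne
  rw [Ideal.eq_top_iff_one, ← hc, pow_two, pow_two]
  exact add_mem (Ideal.mul_mem_left _ _ (hm 1)) (Ideal.mul_mem_left _ _ (hm t))

end Local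

section BaseChange

theorem isFixedRing_baseChange (S' : Type w) [CommRing S'] [Algebra S S'] (lam : R ≃ₐ[S] R)
    (hlam : Function.Involutive lam) (hS : RInv.IsFixedRing S R lam.toRingEquiv)
    (h : Module.Flat S S' ∨ IsUnit (2 : S)) :
    RInv.IsFixedRing S' (S' ⊗[S] R)
      (Algebra.TensorProduct.congr (AlgEquiv.refl : S' ≃ₐ[S] S') lam).toRingEquiv := by
  let L : R →ₗ[S] R := lam.toLinearMap - LinearMap.id
  let i : S →ₗ[S] R := Algebra.linearMap S R
  have hex : Function.Exact i L := fun x => by
    constructor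
    · intro hx
      exact (hS.2 x).1 (sub_eq_zero.1 hx)
    · rintro ⟨s, rfl⟩
      exact sub_eq_zero.2 (lam.commutes s)
  have hmap : ∀ z, (Algebra.TensorProduct.congr (AlgEquiv.refl : S' ≃ₐ[S] S') lam).toRingEquiv z - z = L.lTensor S' z := fun z => by
    induction z with
    | zero => simp
    | tmul a x => simp [L, tmul_sub]
    | add x y hx hy => simp only [map_add, ← hx, ← hy]; abel
  have hincl : ∀ z, i.lTensor S' z = algebraMap S' (S' ⊗[S] R) (TensorProduct.rid S S' z) := fun z => by
    induction z with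
    | zero => simp
    | tmul a s =>
      simp only [i, LinearMap.lTensor_tmul, Algebra.linearMap_apply, TensorProduct.rid_tmul,
        Algebra.TensorProduct.algebraMap_apply, Algebra.algebraMap_self, RingHom.id_apply]
      rw [Algebra.algebraMap_eq_smul_one s, tmul_smul, smul_tmul']
    | add x y hx hy => simp only [map_add, hx, hy]
  have hkey : Function.Injective (i.lTensor S') ∧ ∀ z, L.lTensor S' z = 0 → z ∈ Set.range (i.lTensor S') := by
    rcases h with h | h
    · haveI := h
      exact ⟨Module.Flat.lTensor_preserves_injective_linearMap i hS.1, fun z hz => (Module.Flat.lTensor_exact S' hex z).1 hz⟩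
    · obtain ⟨two, htwo⟩ := h
      let eS : S ≃ₗ[S] LinearMap.range i := LinearEquiv.ofInjective i hS.1
      let half : R →ₗ[S] R := (↑two⁻¹ : S) • (lam.toLinearMap + LinearMap.id)
      have hhalf : ∀ x, half x ∈ LinearMap.range i := fun x => by
        obtain ⟨s, hs⟩ := (hS.2 (half x)).1 (by
          change lam ((↑two⁻¹ : S) • (lam x + x)) = (↑two⁻¹ : S) • (lam x + x)
          rw [map_smul, map_add, hlam, add_comm])
        exact ⟨s, hs⟩
      let ρ : R →ₗ[S] S := eS.symm.toLinearMap.comp (half.codRestrict _ hhalf)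
      have hρ : ∀ x, i (ρ x) = half x := fun x => by
        change (eS (eS.symm _) : R) = _
        rw [LinearEquiv.apply_symm_apply]; rfl
      have h2 : ∀ s : S, (↑two⁻¹ : S) * (s + s) = s := fun s => by
        rw [← two_mul, ← mul_assoc, ← htwo, Units.inv_mul, one_mul]
      have hρi : ρ.comp i = LinearMap.id := LinearMap.ext fun s => hS.1 (by
        change i (ρ (i s)) = i s
        rw [hρ]
        change (↑two⁻¹ : S) • (lam (algebraMap S R s) + algebraMap S R s) = algebraMap S R s
        rw [lam.commutes, ← map_add, Algebra.smul_def, ← map_mul, h2])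
      refine ⟨fun x y hxy => ?_, fun z hz => ⟨ρ.lTensor S' z, ?_⟩⟩
      · have := congrArg (ρ.lTensor S') hxy
        rwa [← LinearMap.lTensor_comp_apply, ← LinearMap.lTensor_comp_apply, hρi, LinearMap.lTensor_id, LinearMap.id_apply,
          LinearMap.id_apply] at this
      · have e : i.comp ρ = (↑two⁻¹ : S) • L + LinearMap.id := LinearMap.ext fun x => by
          rw [LinearMap.comp_apply, hρ]
          change (↑two⁻¹ : S) • (lam x + x) = (↑two⁻¹ : S) • (lam x - x) + x
          have hxx : (↑two⁻¹ : S) • x + (↑two⁻¹ : S) • x = x := by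
            rw [← add_smul, ← mul_one (↑two⁻¹ : S), ← mul_add, h2, one_smul]
          rw [smul_add, smul_sub]
          conv_rhs => arg 2; rw [← hxx]
          abel
        rw [← LinearMap.lTensor_comp_apply, e, LinearMap.lTensor_add, LinearMap.lTensor_smul, LinearMap.lTensor_id,
          LinearMap.add_apply, LinearMap.smul_apply, hz, smul_zero, zero_add, LinearMap.id_apply]
  constructor
  · intro a b hab
    have := hkey.1 (a₁ := (TensorProduct.rid S S').symm a) (a₂ := (TensorProduct.rid S S').symm b)
      (by rw [hincl, hincl, LinearEquiv.apply_symm_apply, LinearEquiv.apply_symm_apply, hab])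
    exact (TensorProduct.rid S S').symm.injective this
  · intro z
    rw [← sub_eq_zero, hmap]
    constructor
    · intro hz
      obtain ⟨w, rfl⟩ := hkey.2 z hz
      exact ⟨_, (hincl w).symm⟩
    · rintro ⟨a, rfl⟩
      have h0 : L.comp i = 0 := hex.linearMap_comp_eq_zero
      rw [show algebraMap S' (S' ⊗[S] R) a = i.lTensor S' ((TensorProduct.rid S S').symm a) by
        rw [hincl, LinearEquiv.apply_symm_apply], ← LinearMap.lTensor_comp_apply, h0, LinearMap.lTensor_zero]
      rfl

theorem spreading (lam : R ≃+* R) (hlam : Function.Involutive lam) (hS : RInv.IsFixedRing S R lam) (p : PrimeSpectrum S)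
    (hp : RInv.IsQuadEtale (Localization.AtPrime p.asIdeal) (Localization.AtPrime p.asIdeal ⊗[S] R)) :
    ∃ s : S, s ∉ p.asIdeal ∧ RInv.IsQuadEtale (Localization.Away s) (Localization.Away s ⊗[S] R) := by
  let lam' : R ≃ₐ[S] R := AlgEquiv.ofRingEquiv (f := lam) (lam_algebraMap lam hS)
  have hlam' : Function.Involutive lam' := hlam
  have hS' : RInv.IsFixedRing S R lam'.toRingEquiv := hS
  have hinv : ∀ (T : Type u) [CommRing T] [Algebra S T],
      Function.Involutive (Algebra.TensorProduct.congr (AlgEquiv.refl : T ≃ₐ[S] T) lam').toRingEquiv := by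
    intro T _ _ z
    induction z with
    | zero => simp
    | tmul a x => simp [hlam' x]
    | add x y hx hy => simp only [map_add, hx, hy]
  haveI : Module.Flat S (Localization.AtPrime p.asIdeal) := IsLocalization.flat _ p.asIdeal.primeCompl
  obtain ⟨ρ, hρ⟩ := exists_sub_isUnit _ (hinv _)
    (isFixedRing_baseChange (Localization.AtPrime p.asIdeal) lam' hlam' hS' (Or.inl inferInstance)) hp
  -- clear denominators
  let φ : R →ₗ[S] Localization.AtPrime p.asIdeal ⊗[S] R :=
    TensorProduct.mk S (Localization.AtPrime p.asIdeal) R 1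
  haveI : IsLocalizedModule p.asIdeal.primeCompl φ :=
    (isLocalizedModule_iff_isBaseChange p.asIdeal.primeCompl (Localization.AtPrime p.asIdeal) φ).2
      (TensorProduct.isBaseChange S R (Localization.AtPrime p.asIdeal))
  obtain ⟨⟨r, t⟩, hrt⟩ := IsLocalizedModule.surj p.asIdeal.primeCompl φ ρ
  have hd1 : IsUnit (φ (r - lam r)) := by
    have e : φ (r - lam r) = algebraMap S (Localization.AtPrime p.asIdeal ⊗[S] R) (t : S) *
        (ρ - (Algebra.TensorProduct.congr (AlgEquiv.refl : Localization.AtPrime p.asIdeal ≃ₐ[S] _) lam').toRingEquiv ρ) := by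
      have hl : ∀ z, φ (lam z) = (Algebra.TensorProduct.congr (AlgEquiv.refl : Localization.AtPrime p.asIdeal ≃ₐ[S] _) lam').toRingEquiv (φ z) :=
        fun z => by simp [φ, lam']
      have hrt' : φ r = algebraMap S (Localization.AtPrime p.asIdeal ⊗[S] R) (t : S) * ρ := by
        rw [← Algebra.smul_def]; exact hrt.symm
      rw [map_sub, hl, hrt', map_mul, mul_sub]
      congr 2
      exact ((Algebra.TensorProduct.congr (AlgEquiv.refl : Localization.AtPrime p.asIdeal ≃ₐ[S] _) lam').commutes (t : S))
    rw [e]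
    refine IsUnit.mul ?_ hρ
    rw [IsScalarTower.algebraMap_apply S (Localization.AtPrime p.asIdeal)]
    exact (IsLocalization.map_units (Localization.AtPrime p.asIdeal) t).map _
  obtain ⟨w, hw⟩ := hd1.exists_right_inv
  obtain ⟨⟨c, t₂⟩, hct⟩ := IsLocalizedModule.surj p.asIdeal.primeCompl φ w
  have h3 : φ ((r - lam r) * c) = φ (algebraMap S R (t₂ : S)) := by
    have e1 : φ ((r - lam r) * c) = φ (r - lam r) * φ c := by simp [φ]
    have e2 : φ (algebraMap S R (t₂ : S)) = algebraMap S _ (t₂ : S) := by
      simp [φ, Algebra.algebraMap_eq_smul_one, Algebra.TensorProduct.one_def]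
    have hct' : φ c = algebraMap S (Localization.AtPrime p.asIdeal ⊗[S] R) (t₂ : S) * w := by
      rw [← Algebra.smul_def]; exact hct.symm
    rw [e1, e2, hct', mul_left_comm, hw, mul_one]
  obtain ⟨v, hv⟩ := (IsLocalizedModule.eq_iff_exists p.asIdeal.primeCompl φ).1 h3
  refine ⟨(v : S) * (t₂ : S), (v * t₂).2, ?_⟩
  set s := (v : S) * (t₂ : S)
  haveI : Module.Flat S (Localization.Away s) := IsLocalization.flat _ (Submonoid.powers s)
  refine isQuadEtale_of_unit _ (hinv _)
    (isFixedRing_baseChange (Localization.Away s) lam' hlam' hS' (Or.inl inferInstance))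
    (r := (1 : Localization.Away s) ⊗ₜ[S] r) ?_
  have e : (1 : Localization.Away s) ⊗ₜ[S] r -
      (Algebra.TensorProduct.congr (AlgEquiv.refl : Localization.Away s ≃ₐ[S] _) lam').toRingEquiv (1 ⊗ₜ[S] r) =
      (Algebra.TensorProduct.includeRight : R →ₐ[S] Localization.Away s ⊗[S] R) (r - lam r) := by
    simp [lam', tmul_sub]
  rw [e]
  refine isUnit_of_mul_isUnit_left (y := (Algebra.TensorProduct.includeRight : R →ₐ[S] Localization.Away s ⊗[S] R) (algebraMap S R (v : S) * c)) ?_
  rw [← map_mul]
  have h4 : (r - lam r) * (algebraMap S R (v : S) * c) = algebraMap S R s := by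
    simp only [Submonoid.smul_def, Algebra.smul_def] at hv
    rw [mul_left_comm, hv, ← map_mul]
  rw [h4, AlgHom.commutes, IsScalarTower.algebraMap_apply S (Localization.Away s)]
  exact (IsLocalization.map_units (Localization.Away s) (⟨s, Submonoid.mem_powers s⟩ : Submonoid.powers s)).map _

end BaseChange

end Groth.Agent.RInvQuad
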