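import Groth.Agent.S15587
import Mathlib

/-!
The branch locus is closed, and the reduced preimage of it.
-/

set_option autoImplicit false
universe u v
open scoped TensorProduct

namespace Groth.Agent.RInvBranch

variable (S : Type u) (R : Type v) [CommRing S] [CommRing R] [Algebra S R] (lam : R ≃+* R)
  (hlam : Function.Involutive lam) (hS : RInv.IsFixedRing S R lam)
include hlam hS

theorem isIntegral : Algebra.IsIntegral S R := by
  refine ⟨fun x => ?_⟩
  obtain ⟨t, ht⟩ := (hS.2 (x + lam x)).1 (by rw [map_add, hlam x, add_comm])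
  obtain ⟨c, hc⟩ := (hS.2 (x * lam x)).1 (by rw [map_mul, hlam x, mul_comm])
  refine ⟨Polynomial.X ^ 2 - Polynomial.C t * Polynomial.X + Polynomial.C c, by monicity!, ?_⟩
  simp [ht, hc]
  ring

theorem exists_over (p : PrimeSpectrum S) :
    ∃ q : PrimeSpectrum R, q.asIdeal.comap (algebraMap S R) = p.asIdeal := by
  haveI := isIntegral S R lam hlam hS
  obtain ⟨Q, -, hQp, hQ⟩ := Ideal.exists_ideal_over_prime_of_isIntegral p.asIdeal (⊥ : Ideal R)
    (fun x hx => by
      rw [Ideal.mem_comap, Ideal.mem_bot] at hx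
      rw [hS.1 (hx.trans (map_zero _).symm)]
      exact zero_mem _)
  exact ⟨⟨Q, hQp⟩, hQ⟩

theorem mem_branch_iff (p : PrimeSpectrum S) :
    ¬ RInv.IsQuadEtale (Localization.AtPrime p.asIdeal) (Localization.AtPrime p.asIdeal ⊗[S] R) ↔
      ∀ s : S, (∃ r : R, algebraMap S R s = (lam r - r) ^ 2) → s ∈ p.asIdeal := by
  rw [S15587.result S R lam hlam hS p]
  constructor
  · rintro ⟨q, hq, -, hr⟩ s ⟨r, hs⟩
    rw [← hq, Ideal.mem_comap, hs, sq]
    exact q.asIdeal.mul_mem_left _ (hr r)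
  · intro h
    obtain ⟨q, hq⟩ := exists_over S R lam hlam hS p
    have hr : ∀ r, lam r - r ∈ q.asIdeal := fun r => by
      obtain ⟨s, hs⟩ := (hS.2 ((lam r - r) ^ 2)).1 (by rw [map_pow, map_sub, hlam r, ← neg_sub, neg_sq])
      refine q.isPrime.mem_of_pow_mem 2 ?_
      rw [← hs, ← Ideal.mem_comap, hq]
      exact h s ⟨r, hs⟩
    exact ⟨q, hq, fun q' hq' => PrimeSpectrum.ext
      (RInvQuad.eq_of_residually_trivial lam hlam hS hr (hq'.trans hq.symm)), hr⟩

variable (W : Set (PrimeSpectrum S))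
  (hW : W = {p : PrimeSpectrum S | ¬ RInv.IsQuadEtale (Localization.AtPrime p.asIdeal) (Localization.AtPrime p.asIdeal ⊗[S] R)})
include hW

theorem mem_W_of_le (p : PrimeSpectrum S) (h : PrimeSpectrum.vanishingIdeal W ≤ p.asIdeal) : p ∈ W := by
  rw [hW, Set.mem_setOf_eq, mem_branch_iff S R lam hlam hS]
  refine fun s hs => h ((PrimeSpectrum.mem_vanishingIdeal W s).2 fun p' hp' => ?_)
  rw [hW, Set.mem_setOf_eq, mem_branch_iff S R lam hlam hS] at hp'
  exact hp' s hs

/-- Over the branch locus: `lam` is trivial and the point is unique. -/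
theorem point_facts (q : PrimeSpectrum R) (h : (PrimeSpectrum.vanishingIdeal W).map (algebraMap S R) ≤ q.asIdeal) :
    (∀ r, lam r - r ∈ q.asIdeal) ∧
      ∀ q' : PrimeSpectrum R, q'.asIdeal.comap (algebraMap S R) = q.asIdeal.comap (algebraMap S R) → q' = q := by
  have hp := mem_W_of_le S R lam hlam hS W hW ⟨q.asIdeal.comap (algebraMap S R), inferInstance⟩
    (Ideal.map_le_iff_le_comap.1 h)
  rw [hW, Set.mem_setOf_eq, S15587.result S R lam hlam hS] at hp
  obtain ⟨q₀, -, huni, hr⟩ := hp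
  obtain rfl : q = q₀ := huni q rfl
  exact ⟨hr, huni⟩

theorem sub_mem_radical (r : R) :
    lam r - r ∈ ((PrimeSpectrum.vanishingIdeal W).map (algebraMap S R)).radical := by
  rw [Ideal.radical_eq_sInf, Submodule.mem_sInf]
  rintro q ⟨hq, hqp⟩
  exact (point_facts S R lam hlam hS W hW ⟨q, hqp⟩ hq).1 r

theorem homeo_and_bijective (J : Ideal R) (hJ : J = ((PrimeSpectrum.vanishingIdeal W).map (algebraMap S R)).radical)
    (hIJ : PrimeSpectrum.vanishingIdeal W ≤ J.comap (algebraMap S R)) :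
    IsHomeomorph (PrimeSpectrum.comap (Ideal.quotientMap J (algebraMap S R) hIJ)) ∧
      (IsUnit (2 : S) → Function.Bijective (Ideal.quotientMap J (algebraMap S R) hIJ)) := by
  haveI := isIntegral S R lam hlam hS
  have hJle : ∀ q : PrimeSpectrum R, (PrimeSpectrum.vanishingIdeal W).map (algebraMap S R) ≤ q.asIdeal → J ≤ q.asIdeal :=
    fun q hq => hJ ▸ q.isPrime.radical_le_iff.2 hq
  set φ := Ideal.quotientMap J (algebraMap S R) hIJ with hφ
  have hcomp : ∀ Q : PrimeSpectrum (R ⧸ J),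
      ((PrimeSpectrum.comap φ Q).asIdeal.comap (Ideal.Quotient.mk (PrimeSpectrum.vanishingIdeal W))) =
        (Q.asIdeal.comap (Ideal.Quotient.mk J)).comap (algebraMap S R) := fun Q => by
    ext x; simp [hφ, Ideal.quotientMap_mk]
  have hint : φ.IsIntegral := by
    refine RingHom.IsIntegral.tower_top (f := Ideal.Quotient.mk (PrimeSpectrum.vanishingIdeal W)) φ ?_
    rw [hφ, Ideal.quotientMap_comp_mk]
    exact RingHom.IsIntegral.trans _ _ (algebraMap_isIntegral_iff.2 inferInstance)
      (RingHom.isIntegral_of_surjective _ Ideal.Quotient.mk_surjective)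
  refine ⟨isHomeomorph_iff_continuous_isClosedMap_bijective.2 ⟨PrimeSpectrum.continuous_comap φ,
    PrimeSpectrum.isClosedMap_comap_of_isIntegral φ hint, fun Q₁ Q₂ h => ?_, fun p => ?_⟩, fun h2 => ⟨?_, ?_⟩⟩
  · have hle : (PrimeSpectrum.vanishingIdeal W).map (algebraMap S R) ≤ Q₁.asIdeal.comap (Ideal.Quotient.mk J) := by
      refine le_trans ?_ (fun x (hx : x ∈ J) => by simp [(Ideal.Quotient.eq_zero_iff_mem).2 hx])
      exact hJ ▸ Ideal.le_radical
    have heq := (point_facts S R lam hlam hS W hW ⟨Q₁.asIdeal.comap (Ideal.Quotient.mk J), inferInstance⟩ hle).2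
      ⟨Q₂.asIdeal.comap (Ideal.Quotient.mk J), inferInstance⟩ (by rw [← hcomp, ← hcomp, h])
    exact PrimeSpectrum.ext (Ideal.comap_injective_of_surjective _ Ideal.Quotient.mk_surjective
      (congrArg PrimeSpectrum.asIdeal heq).symm)
  · obtain ⟨q, hq⟩ := exists_over S R lam hlam hS (PrimeSpectrum.comap (Ideal.Quotient.mk (PrimeSpectrum.vanishingIdeal W)) p)
    have hle : J ≤ q.asIdeal := hJle q (Ideal.map_le_iff_le_comap.2 fun x hx => by
      rw [hq]; simp [(Ideal.Quotient.eq_zero_iff_mem).2 hx])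
    refine ⟨⟨q.asIdeal.map (Ideal.Quotient.mk J), Ideal.map_isPrime_of_surjective Ideal.Quotient.mk_surjective
      (by rwa [Ideal.mk_ker])⟩, PrimeSpectrum.ext (Ideal.comap_injective_of_surjective
        (Ideal.Quotient.mk (PrimeSpectrum.vanishingIdeal W)) Ideal.Quotient.mk_surjective ?_)⟩
    rw [hcomp]
    change ((q.asIdeal.map (Ideal.Quotient.mk J)).comap (Ideal.Quotient.mk J)).comap (algebraMap S R) = _
    rw [Ideal.comap_map_of_surjective _ Ideal.Quotient.mk_surjective, ← RingHom.ker_eq_comap_bot, Ideal.mk_ker,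
      sup_eq_left.2 hle, hq]
    rfl
  · refine Ideal.quotientMap_injective' (fun x hx => ?_)
    rw [PrimeSpectrum.mem_vanishingIdeal]
    intro p hp
    obtain ⟨q, hq⟩ := exists_over S R lam hlam hS p
    rw [← hq]
    refine hJle q (Ideal.map_le_iff_le_comap.2 fun y hy => ?_) hx
    rw [hq]
    exact (PrimeSpectrum.mem_vanishingIdeal W y).1 hy p hp
  · intro x
    obtain ⟨r, rfl⟩ := Ideal.Quotient.mk_surjective x
    obtain ⟨t, ht⟩ := (hS.2 (r + lam r)).1 (by rw [map_add, hlam r, add_comm])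
    obtain ⟨w, hw⟩ := h2.exists_left_inv
    refine ⟨Ideal.Quotient.mk _ (w * t), ?_⟩
    rw [hφ, Ideal.quotientMap_mk, Ideal.Quotient.eq, map_mul, ht]
    have hw' : algebraMap S R w * 2 = 1 := by
      rw [← map_ofNat (algebraMap S R) 2, ← map_mul, hw, map_one]
    have : algebraMap S R w * (r + lam r) - r = algebraMap S R w * (lam r - r) := by
      linear_combination r * hw'
    rw [this]
    exact J.mul_mem_left _ (hJ ▸ sub_mem_radical S R lam hlam hS W hW r)

end Groth.Agent.RInvBranch
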