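import Groth.Prelude.Def_W4c2azumayainvolQEt
import Groth.Agent.RInvQuad.Basic
import Mathlib.RingTheory.LocalRing.MaximalIdeal.Basic
import Mathlib.RingTheory.Jacobson.Ideal

/-!
The fixed ring of an involution, when it is local: its non-units lie in every maximal ideal upstairs.
-/

set_option autoImplicit false

universe u v

namespace Groth.Agent.RInvQuad

variable {S : Type u} {R : Type v} [CommRing S] [CommRing R] [Algebra S R]

theorem algebraMap_mem_of_isMaximal [IsLocalRing S] (lam : R ≃+* R) (hlam : Function.Involutive lam)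
    (hS : RInv.IsFixedRing S R lam) {s : S} (hs : ¬ IsUnit s) (M : Ideal R) [hM : M.IsMaximal] :
    algebraMap S R s ∈ M := by
  by_contra hn
  obtain ⟨y, i, hi, he⟩ := hM.exists_inv hn
  obtain ⟨t, ht⟩ := (hS.2 (y + lam y)).mp (by rw [map_add, hlam y, add_comm])
  obtain ⟨n, hn'⟩ := (hS.2 (y * lam y)).mp (by rw [map_mul, hlam y, mul_comm])
  have hu : IsUnit (1 - s * t + s ^ 2 * n) := by
    by_contra h'
    have h1 := (IsLocalRing.mem_maximalIdeal _).mpr h'
    have h2 : s ∈ IsLocalRing.maximalIdeal S := (IsLocalRing.mem_maximalIdeal _).mpr hs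
    refine (IsLocalRing.maximalIdeal.isMaximal S).ne_top ((Ideal.eq_top_iff_one _).mpr ?_)
    have := Ideal.sub_mem _ h1 (Ideal.mul_mem_right (-t + s * n) _ h2)
    convert this using 1
    ring
  have he' : (1 - algebraMap S R s * y) * (1 - algebraMap S R s * lam y) =
      algebraMap S R (1 - s * t + s ^ 2 * n) := by
    rw [map_add, map_sub, map_one, map_mul, map_mul, map_pow, ht, hn']; ring
  have hu' := isUnit_of_mul_isUnit_left (he'.symm ▸ hu.map (algebraMap S R) :
    IsUnit ((1 - algebraMap S R s * y) * (1 - algebraMap S R s * lam y)))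
  refine hM.ne_top (Ideal.eq_top_of_isUnit_mem M ?_ hu')
  have : 1 - algebraMap S R s * y = i := by rw [← he]; ring
  rw [this]; exact hi

/-- A prime on which the involution is residually trivial is the only one over its image. -/
theorem eq_of_residually_trivial (lam : R ≃+* R) (hlam : Function.Involutive lam)
    (hS : RInv.IsFixedRing S R lam) {q q' : Ideal R} [q.IsPrime] [q'.IsPrime]
    (h : ∀ r : R, lam r - r ∈ q)
    (he : q'.comap (algebraMap S R) = q.comap (algebraMap S R)) : q' = q := by
  have key : ∀ a : R, ∃ t n : S, algebraMap S R t = a + lam a ∧ algebraMap S R n = a * lam a := fun a => by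
    obtain ⟨t, ht⟩ := (hS.2 (a + lam a)).mp (by rw [map_add, hlam a, add_comm])
    obtain ⟨n, hn⟩ := (hS.2 (a * lam a)).mp (by rw [map_mul, hlam a, mul_comm])
    exact ⟨t, n, ht, hn⟩
  refine le_antisymm (fun a ha => ?_) fun a ha => ?_
  · obtain ⟨t, n, -, hn⟩ := key a
    have : n ∈ q.comap (algebraMap S R) := he ▸ (show algebraMap S R n ∈ q' from hn ▸ q'.mul_mem_right _ ha)
    rw [Ideal.mem_comap, hn] at this
    rcases Ideal.IsPrime.mem_or_mem ‹q.IsPrime› this with h' | h'
    · exact h'
    · have := q.sub_mem h' (h a); rwa [sub_sub_cancel] at this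
  · obtain ⟨t, n, ht, hn⟩ := key a
    have hla : lam a ∈ q := by have := q.add_mem (h a) ha; rwa [sub_add_cancel] at this
    have h1 : t ∈ q'.comap (algebraMap S R) := he.symm ▸ (show algebraMap S R t ∈ q from ht ▸ q.add_mem ha hla)
    have h2 : n ∈ q'.comap (algebraMap S R) := he.symm ▸ (show algebraMap S R n ∈ q from hn ▸ q.mul_mem_right _ ha)
    rw [Ideal.mem_comap, ht] at h1
    rw [Ideal.mem_comap, hn] at h2
    rcases Ideal.IsPrime.mem_or_mem ‹q'.IsPrime› h2 with h' | h'
    · exact h'
    · have := q'.sub_mem h1 h'; rwa [add_sub_cancel_right] at this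

end Groth.Agent.RInvQuad
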