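import Mathlib

/-!
Spreading out congruences of matrices from a localisation at a prime to a basic open.
-/

set_option autoImplicit false
set_option linter.style.haveILetI false
universe u v w w'
open scoped TensorProduct

noncomputable section

namespace Groth.Agent.RInvSpread

/-- Square roots adjoined. -/
abbrev Q {R : Type u} [CommRing R] {l : ℕ} (s : Fin l → R) : Type u :=
  MvPolynomial (Fin l) R ⧸ Ideal.span (Set.range fun k : Fin l => MvPolynomial.X k ^ 2 - MvPolynomial.C (s k))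

variable {B : Type u} [CommRing B]

theorem sq_X {R : Type u} [CommRing R] [Algebra B R] {l : ℕ} (s : Fin l → R) (k : Fin l) :
    (Ideal.Quotient.mk _ (MvPolynomial.X k) : Q s) ^ 2 = IsScalarTower.toAlgHom B R (Q s) (s k) := by
  rw [← map_pow]
  exact (Ideal.Quotient.eq).2 (Ideal.subset_span ⟨k, rfl⟩)

/-- The hom out of `Q s`. -/
theorem exists_hom {R : Type u} [CommRing R] [Algebra B R] {l : ℕ} (s : Fin l → R) {S : Type w} [CommRing S]
    [Algebra B S] (g : R →ₐ[B] S) (x : Fin l → S) (hx : ∀ k, x k ^ 2 = g (s k)) :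
    ∃ χ : Q s →ₐ[B] S, χ.comp (IsScalarTower.toAlgHom B R (Q s)) = g ∧
      ∀ k, χ (Ideal.Quotient.mk _ (MvPolynomial.X k)) = x k := by
  have hcomm : ∀ b : B, MvPolynomial.eval₂Hom g.toRingHom x (algebraMap B (MvPolynomial (Fin l) R) b) = algebraMap B S b := by
    intro b
    rw [IsScalarTower.algebraMap_apply B R (MvPolynomial (Fin l) R), MvPolynomial.algebraMap_eq]
    simp
  let e : MvPolynomial (Fin l) R →ₐ[B] S := { MvPolynomial.eval₂Hom g.toRingHom x with commutes' := hcomm }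
  have hI : ∀ p ∈ Ideal.span (Set.range fun k : Fin l => MvPolynomial.X k ^ 2 - MvPolynomial.C (s k)), e p = 0 := by
    intro p hp
    suffices h : Ideal.span (Set.range fun k : Fin l => MvPolynomial.X k ^ 2 - MvPolynomial.C (s k)) ≤
        RingHom.ker (MvPolynomial.eval₂Hom g.toRingHom x) from h hp
    rw [Ideal.span_le]
    rintro _ ⟨k, rfl⟩
    simp [hx]
  refine ⟨Ideal.Quotient.liftₐ _ e hI, AlgHom.ext fun r => ?_, fun k => ?_⟩
  · change MvPolynomial.eval₂Hom g.toRingHom x (MvPolynomial.C r) = g r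
    simp
  · change MvPolynomial.eval₂Hom g.toRingHom x (MvPolynomial.X k) = x k
    simp

theorem hom_ext {R : Type u} [CommRing R] [Algebra B R] {l : ℕ} {s : Fin l → R} {S : Type w} [CommRing S]
    [Algebra B S] {χ χ' : Q s →ₐ[B] S}
    (h : χ.comp (IsScalarTower.toAlgHom B R (Q s)) = χ'.comp (IsScalarTower.toAlgHom B R (Q s)))
    (hX : ∀ k, χ (Ideal.Quotient.mk _ (MvPolynomial.X k)) = χ' (Ideal.Quotient.mk _ (MvPolynomial.X k))) : χ = χ' := by
  refine AlgHom.ext fun q => ?_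
  obtain ⟨q, rfl⟩ := Ideal.Quotient.mk_surjective q
  induction q using MvPolynomial.induction_on with
  | C r => exact DFunLike.congr_fun h r
  | add a b ha hb => rw [map_add, map_add, map_add, ha, hb]
  | mul_X a k ha => rw [map_mul, map_mul, map_mul, ha, hX]

variable (p : Ideal B) [p.IsPrime]

/-- Everything comes from `Q s₀` up to denominators. -/
theorem exists_lift {R₀ : Type u} [CommRing R₀] [Algebra B R₀] {l : ℕ} {s₀ : Fin l → R₀}
    {s : Fin l → Localization.AtPrime p} (ψ : Q s₀ →ₐ[B] Q s)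
    (hψ : ∀ k, ψ (Ideal.Quotient.mk _ (MvPolynomial.X k)) = Ideal.Quotient.mk _ (MvPolynomial.X k)) (q : Q s) :
    ∃ c : B, c ∉ p ∧ ∃ q₀ : Q s₀, ψ q₀ = c • q := by
  obtain ⟨q, rfl⟩ := Ideal.Quotient.mk_surjective q
  induction q using MvPolynomial.induction_on with
  | C r =>
    obtain ⟨⟨b, c, hc⟩, he⟩ := IsLocalization.surj p.primeCompl r
    refine ⟨c, hc, algebraMap B (Q s₀) b, ?_⟩
    refine Eq.trans ?_ (Algebra.smul_def (A := Q s) c _).symm
    rw [AlgHom.commutes, IsScalarTower.algebraMap_apply B (Localization.AtPrime p) (Q s),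
      ← he, map_mul, mul_comm, ← IsScalarTower.algebraMap_apply B (Localization.AtPrime p) (Q s)]
    rfl
  | add a b ha hb =>
    obtain ⟨c, hc, qa, hqa⟩ := ha
    obtain ⟨d, hd, qb, hqb⟩ := hb
    refine ⟨c * d, fun h => (Ideal.IsPrime.mem_or_mem ‹_› h).elim hc hd, d • qa + c • qb, ?_⟩
    rw [map_add ψ, map_smul ψ, map_smul ψ, hqa, hqb, smul_smul, smul_smul, mul_comm d c, ← smul_add, map_add]
  | mul_X a k ha =>
    obtain ⟨c, hc, qa, hqa⟩ := ha
    exact ⟨c, hc, qa * Ideal.Quotient.mk _ (MvPolynomial.X k), by rw [map_mul ψ, hψ, hqa, map_mul, smul_mul_assoc]⟩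

theorem exists_extend {R₀ : Type u} [CommRing R₀] [Algebra B R₀] [Subsingleton (R₀ →ₐ[B] Localization.AtPrime p)]
    {l : ℕ} {s₀ : Fin l → R₀} {s : Fin l → Localization.AtPrime p} (g₀ : R₀ →ₐ[B] Localization.AtPrime p)
    (hs : ∀ k, g₀ (s₀ k) = s k) {S : Type w} [CommRing S] [Algebra B S] [Subsingleton (R₀ →ₐ[B] S)]
    (χ : Q s₀ →ₐ[B] S) (hu : ∀ c : B, c ∉ p → IsUnit (algebraMap B S c)) (ψ : Q s₀ →ₐ[B] Q s)
    (hψ : ∀ k, ψ (Ideal.Quotient.mk _ (MvPolynomial.X k)) = Ideal.Quotient.mk _ (MvPolynomial.X k)) :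
    ∃ θ : Q s →ₐ[B] S, θ.comp ψ = χ := by
  let gp : Localization.AtPrime p →ₐ[B] S := IsLocalization.liftAlgHom (M := p.primeCompl)
    (f := Algebra.ofId B S) fun y => hu y.1 y.2
  obtain ⟨θ, hθ, hθX⟩ := exists_hom s gp (fun k => χ (Ideal.Quotient.mk _ (MvPolynomial.X k))) fun k => by
    rw [← map_pow, sq_X (B := B), ← hs]
    exact DFunLike.congr_fun (Subsingleton.elim (χ.comp (IsScalarTower.toAlgHom B R₀ (Q s₀))) (gp.comp g₀)) (s₀ k)
  exact ⟨θ, hom_ext (Subsingleton.elim _ _) fun k => by rw [AlgHom.comp_apply, hψ, hθX]⟩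

variable {A : Type v} [CommRing A] [Algebra B A]

abbrev conj (C : Type w) [CommRing C] [Algebra B C] (lam : A ≃ₐ[B] A) : (C ⊗[B] A) ≃ₐ[B] (C ⊗[B] A) :=
  (Algebra.TensorProduct.congr (AlgEquiv.refl : C ≃ₐ[C] C) lam).restrictScalars B

theorem conj_map {C : Type w} {D : Type w'} [CommRing C] [CommRing D] [Algebra B C] [Algebra B D] (φ : C →ₐ[B] D)
    (lam : A ≃ₐ[B] A) (z : C ⊗[B] A) :
    conj D lam (Algebra.TensorProduct.map φ (AlgHom.id B A) z) =
      Algebra.TensorProduct.map φ (AlgHom.id B A) (conj C lam z) := by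
  induction z using TensorProduct.induction_on with
  | zero => simp
  | tmul a b => simp
  | add a b ha hb => simp only [map_add, ha, hb]

variable {n : ℕ}

/-- `lam v^T h v`. -/
def form (C : Type w) [CommRing C] [Algebra B C] (lam : A ≃ₐ[B] A) (h : Matrix (Fin n) (Fin n) A)
    (v : Matrix (Fin n) (Fin n) (C ⊗[B] A)) : Matrix (Fin n) (Fin n) (C ⊗[B] A) :=
  (v.map (conj C lam)).transpose * h.map (Algebra.TensorProduct.includeRight : A →ₐ[B] C ⊗[B] A) * v

theorem form_map {C : Type w} {D : Type w'} [CommRing C] [CommRing D] [Algebra B C] [Algebra B D] (φ : C →ₐ[B] D)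
    (lam : A ≃ₐ[B] A) (h : Matrix (Fin n) (Fin n) A) (v : Matrix (Fin n) (Fin n) (C ⊗[B] A)) :
    (form C lam h v).map (Algebra.TensorProduct.map φ (AlgHom.id B A)) =
      form D lam h (v.map (Algebra.TensorProduct.map φ (AlgHom.id B A))) := by
  simp only [form, Matrix.map_mul, Matrix.transpose_map, Matrix.map_map]
  congr 2
  · congr 1
    ext i j
    exact (conj_map φ lam (v i j)).symm
  · ext i j
    simp

theorem form_smul {C : Type w} [CommRing C] [Algebra B C] (lam : A ≃ₐ[B] A) (h : Matrix (Fin n) (Fin n) A)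
    (u : C) (v : Matrix (Fin n) (Fin n) (C ⊗[B] A)) :
    form C lam h ((u ⊗ₜ[B] (1 : A)) • v) = ((u ⊗ₜ[B] (1 : A)) * (u ⊗ₜ[B] (1 : A))) • form C lam h v := by
  have hc : conj C lam (u ⊗ₜ[B] (1 : A)) = u ⊗ₜ[B] (1 : A) := by simp
  have : (((u ⊗ₜ[B] (1 : A)) • v).map (conj C lam)) = (u ⊗ₜ[B] (1 : A)) • v.map (conj C lam) := by
    ext i j
    simp only [Matrix.map_apply, Matrix.smul_apply, smul_eq_mul]
    rw [map_mul, hc]
  simp only [form, this, Matrix.transpose_smul, Matrix.smul_mul, Matrix.mul_smul, smul_smul]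

theorem isUnit_of_form {C : Type w} [CommRing C] [Algebra B C] (lam : A ≃ₐ[B] A)
    (h h' : Matrix (Fin n) (Fin n) A) (hh' : IsUnit h') (v : Matrix (Fin n) (Fin n) (C ⊗[B] A))
    (hv : form C lam h v = h'.map (Algebra.TensorProduct.includeRight : A →ₐ[B] C ⊗[B] A)) : IsUnit v := by
  rw [Matrix.isUnit_iff_isUnit_det] at hh' ⊢
  have := congrArg Matrix.det hv
  rw [form, Matrix.det_mul, ← AlgHom.mapMatrix_apply Algebra.TensorProduct.includeRight h',
    ← AlgHom.map_det] at this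
  exact isUnit_of_mul_isUnit_right (this ▸ hh'.map Algebra.TensorProduct.includeRight)

/-- Descent of one congruence. -/
theorem descend {C₀ Cp : Type u} [CommRing C₀] [CommRing Cp] [Algebra B C₀] [Algebra B Cp] [Algebra C₀ Cp]
    [IsScalarTower B C₀ Cp] [IsLocalization (Algebra.algebraMapSubmonoid C₀ p.primeCompl) Cp]
    (lam : A ≃ₐ[B] A) (h h' : Matrix (Fin n) (Fin n) A) (v : Matrix (Fin n) (Fin n) (Cp ⊗[B] A))
    (hv : form Cp lam h v = h'.map (Algebra.TensorProduct.includeRight : A →ₐ[B] Cp ⊗[B] A)) :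
    ∃ (c c' : B) (w : Matrix (Fin n) (Fin n) (C₀ ⊗[B] A)), c ∉ p ∧ c' ∉ p ∧
      c' • form C₀ lam h w = (c' * (c * c)) • h'.map (Algebra.TensorProduct.includeRight : A →ₐ[B] C₀ ⊗[B] A) := by
  classical
  let g : C₀ →ₐ[B] Cp := IsScalarTower.toAlgHom B C₀ Cp
  haveI : IsLocalizedModule p.primeCompl g.toLinearMap := (isLocalizedModule_iff_isLocalization).2 ‹_›
  let G : C₀ ⊗[B] A →ₐ[B] Cp ⊗[B] A := Algebra.TensorProduct.map g (AlgHom.id B A)
  have hG : G.toLinearMap = TensorProduct.AlgebraTensorModule.rTensor B A g.toLinearMap :=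
    TensorProduct.ext' fun a b => rfl
  haveI : IsLocalizedModule p.primeCompl G.toLinearMap := by rw [hG]; infer_instance
  obtain ⟨c, hc⟩ := IsLocalizedModule.exist_integer_multiples p.primeCompl G.toLinearMap Finset.univ
    fun ij : Fin n × Fin n => v ij.1 ij.2
  choose w hw using fun ij : Fin n × Fin n => hc ij (Finset.mem_univ _)
  let W : Matrix (Fin n) (Fin n) (C₀ ⊗[B] A) := Matrix.of fun i j => w (i, j)
  have hW : W.map G = (algebraMap B (Cp ⊗[B] A) c) • v := by
    ext i j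
    simp only [W, Matrix.map_apply, Matrix.of_apply, Matrix.smul_apply, smul_eq_mul]
    rw [← Algebra.smul_def]
    exact hw (i, j)
  have hGform : (form C₀ lam h W).map G =
      (((c : B) * c) • h'.map (Algebra.TensorProduct.includeRight : A →ₐ[B] C₀ ⊗[B] A)).map G := by
    rw [form_map g lam h W]
    rw [show W.map (Algebra.TensorProduct.map g (AlgHom.id B A)) = W.map G from rfl, hW,
      show algebraMap B (Cp ⊗[B] A) c = (algebraMap B Cp c) ⊗ₜ[B] (1 : A) from rfl, form_smul, hv]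
    ext i j
    simp only [Matrix.map_apply, Matrix.smul_apply, map_smul G, smul_eq_mul]
    rw [Algebra.smul_def (A := Cp ⊗[B] A)]
    simp [G, Algebra.TensorProduct.algebraMap_apply]
  choose d hd using fun ij : Fin n × Fin n => (IsLocalizedModule.eq_iff_exists p.primeCompl G.toLinearMap).1
    (show G.toLinearMap (form C₀ lam h W ij.1 ij.2) = G.toLinearMap (((c : B) * c) • Algebra.TensorProduct.includeRight (h' ij.1 ij.2)) from congrFun₂ hGform ij.1 ij.2)
  refine ⟨c, (∏ ij, d ij : p.primeCompl), W, c.2, (∏ ij, d ij : p.primeCompl).2, ?_⟩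
  ext i j
  obtain ⟨e, he⟩ : (d (i, j) : B) ∣ ((∏ ij, d ij : p.primeCompl) : B) := by
    rw [Submonoid.coe_finsetProd]; exact Finset.dvd_prod_of_mem _ (Finset.mem_univ _)
  have := hd (i, j)
  simp only [Submonoid.smul_def, Matrix.smul_apply] at this ⊢
  rw [mul_smul, he, mul_comm, mul_smul, mul_smul, this, Matrix.map_apply]

/-- The congruence over any algebra where the denominators are units. -/
theorem exists_congr {C₀ : Type w} {D : Type w'} [CommRing C₀] [CommRing D] [Algebra B C₀] [Algebra B D]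
    (φ : C₀ →ₐ[B] D) (lam : A ≃ₐ[B] A) (h h' : Matrix (Fin n) (Fin n) A) (hh' : IsUnit h') {c c' : B}
    (hc : IsUnit (algebraMap B D c)) (hc' : IsUnit (algebraMap B D c')) (w : Matrix (Fin n) (Fin n) (C₀ ⊗[B] A))
    (hw : c' • form C₀ lam h w = (c' * (c * c)) • h'.map (Algebra.TensorProduct.includeRight : A →ₐ[B] C₀ ⊗[B] A)) :
    ∃ v : Matrix (Fin n) (Fin n) (D ⊗[B] A), IsUnit v ∧
      form D lam h v = h'.map (Algebra.TensorProduct.includeRight : A →ₐ[B] D ⊗[B] A) := by
  obtain ⟨u, hu⟩ := hc.exists_left_inv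
  obtain ⟨u', hu'⟩ := hc'.exists_left_inv
  let Φ : C₀ ⊗[B] A →ₐ[B] D ⊗[B] A := Algebra.TensorProduct.map φ (AlgHom.id B A)
  have hinv : ∀ (b : B) (x : D), x * algebraMap B D b = 1 →
      (x ⊗ₜ[B] (1 : A)) * algebraMap B (D ⊗[B] A) b = 1 := fun b x hx => by
    rw [show algebraMap B (D ⊗[B] A) b = (algebraMap B D b) ⊗ₜ[B] (1 : A) from rfl,
      Algebra.TensorProduct.tmul_mul_tmul, hx, one_mul]
    rfl
  have hform : form D lam h ((u ⊗ₜ[B] (1 : A)) • w.map Φ) =
      h'.map (Algebra.TensorProduct.includeRight : A →ₐ[B] D ⊗[B] A) := by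
    rw [form_smul, ← form_map]
    ext i j
    have h1 := congrArg Φ (congrFun₂ hw i j)
    simp only [Matrix.smul_apply, Algebra.smul_def, map_mul, AlgHom.commutes, Matrix.map_apply] at h1
    simp only [Matrix.smul_apply, smul_eq_mul, Matrix.map_apply]
    have e1 := hinv c u hu
    have e2 := hinv c' u' hu'
    rw [show Φ (Algebra.TensorProduct.includeRight (h' i j)) = Algebra.TensorProduct.includeRight (h' i j) by simp [Φ]] at h1
    linear_combination (u ⊗ₜ[B] (1 : A)) * (u ⊗ₜ[B] (1 : A)) * (u' ⊗ₜ[B] (1 : A)) * h1 +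
      (Algebra.TensorProduct.includeRight (h' i j) * ((u ⊗ₜ[B] (1 : A)) * algebraMap B (D ⊗[B] A) c + 1)) * e1 +
      ((u ⊗ₜ[B] (1 : A)) ^ 2 * ((algebraMap B (D ⊗[B] A) c) ^ 2 * Algebra.TensorProduct.includeRight (h' i j) - Φ (form C₀ lam h w i j))) * e2
  exact ⟨_, isUnit_of_form lam h h' hh' _ hform, hform⟩

/-- Congruence data over `R`. -/
def Data (R : Type u) [CommRing R] [Algebra B R] (lam : A ≃ₐ[B] A) (h h' : Matrix (Fin n) (Fin n) A) : Prop :=
  ∃ (l : ℕ) (s : Fin l → Rˣ) (r : ℕ) (f : Fin r → Q (fun k => (s k : R))), Ideal.span (Set.range f) = ⊤ ∧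
    ∀ (i : Fin r) (C : Type u) [CommRing C] [Algebra B C] [Algebra (Q (fun k => (s k : R))) C]
      [IsScalarTower B (Q (fun k => (s k : R))) C] [IsLocalization.Away (f i) C],
      ∃ v : Matrix (Fin n) (Fin n) (C ⊗[B] A), IsUnit v ∧
        form C lam h v = h'.map (Algebra.TensorProduct.includeRight : A →ₐ[B] C ⊗[B] A)

theorem prod_notMem {ι : Type*} [Fintype ι] (x : ι → B) (hx : ∀ i, x i ∉ p) : ∏ i, x i ∉ p :=
  prod_mem (S := p.primeCompl) fun i _ => hx i

theorem spread (lam : A ≃ₐ[B] A) (h h' : Matrix (Fin n) (Fin n) A) (hh' : IsUnit h')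
    (hd : Data (Localization.AtPrime p) lam h h') :
    ∃ b : B, b ∉ p ∧ Data (Localization.Away b) lam h h' := by
  classical
  obtain ⟨l, s, r, f, hspan, hf⟩ := hd
  -- the units
  choose ut hut using fun k => IsLocalization.surj p.primeCompl (s k : Localization.AtPrime p)
  have hu : ∀ k, (ut k).1 ∉ p := fun k => by
    have : IsUnit (algebraMap B (Localization.AtPrime p) (ut k).1) :=
      hut k ▸ (s k).isUnit.mul (IsLocalization.map_units _ (ut k).2)
    exact (IsLocalization.AtPrime.isUnit_to_map_iff _ p _).1 this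
  let b₀ : B := ∏ k, ((ut k).1 * ((ut k).2 : B))
  have hb₀ : b₀ ∉ p := prod_notMem p _ fun k h => (Ideal.IsPrime.mem_or_mem ‹_› h).elim (hu k) (ut k).2.2
  let R₀ := Localization.Away b₀
  have hb₀u : IsUnit (algebraMap B R₀ b₀) := IsLocalization.Away.algebraMap_isUnit b₀
  have huk : ∀ k, IsUnit (algebraMap B R₀ (ut k).1) ∧ IsUnit (algebraMap B R₀ ((ut k).2 : B)) := fun k => by
    have := isUnit_of_dvd_unit (map_dvd (algebraMap B R₀) (Finset.dvd_prod_of_mem
      (fun k => (ut k).1 * ((ut k).2 : B)) (Finset.mem_univ k))) hb₀u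
    rwa [map_mul, IsUnit.mul_iff] at this
  let s₀ : Fin l → R₀ˣ := fun k => (huk k).1.unit * (huk k).2.unit⁻¹
  haveI : ∀ (S : Type u) [CommRing S] [Algebra B S], Subsingleton (R₀ →ₐ[B] S) := fun S _ _ =>
    IsLocalization.algHom_subsingleton (Submonoid.powers b₀)
  let g₀ : R₀ →ₐ[B] Localization.AtPrime p := IsLocalization.liftAlgHom (M := Submonoid.powers b₀)
    (f := Algebra.ofId B (Localization.AtPrime p)) fun y => by
      obtain ⟨y, e, rfl⟩ := y
      exact (IsLocalization.map_units (Localization.AtPrime p) (⟨b₀, hb₀⟩ : p.primeCompl)).pow e |> fun h => by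
        simpa using h
  have hs₀ : ∀ k, g₀ (s₀ k : R₀) = (s k : Localization.AtPrime p) := fun k => by
    have h1 : (s₀ k : R₀) * algebraMap B R₀ ((ut k).2 : B) = algebraMap B R₀ (ut k).1 := by
      simp only [s₀, Units.val_mul, mul_assoc]
      rw [IsUnit.val_inv_mul, mul_one, IsUnit.unit_spec]
    have h2 := congrArg g₀ h1
    rw [map_mul, AlgHom.commutes, AlgHom.commutes, ← hut k] at h2
    exact (IsLocalization.map_units (Localization.AtPrime p) (ut k).2).mul_left_injective h2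
  obtain ⟨ψ, -, hψ⟩ := exists_hom (fun k => (s₀ k : R₀)) ((IsScalarTower.toAlgHom B (Localization.AtPrime p)
    (Q fun k => (s k : Localization.AtPrime p))).comp g₀) (fun k => Ideal.Quotient.mk _ (MvPolynomial.X k))
    fun k => by rw [AlgHom.comp_apply, hs₀ k]; exact sq_X (fun k => (s k : Localization.AtPrime p)) k
  let Q₀ := Q fun k => (s₀ k : R₀)
  choose cf hcf f₀ hf₀ using fun i => exists_lift p ψ hψ (f i)
  -- the span
  obtain ⟨cd, hcd, hone⟩ : ∃ cd : B, cd ∉ p ∧ algebraMap B Q₀ cd ∈ Ideal.span (Set.range f₀) := by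
    obtain ⟨a, ha⟩ : ∃ a : Fin r → _, ∑ i, a i * f i = 1 := Ideal.mem_span_range_iff_exists_fun.1
      ((Ideal.eq_top_iff_one _).1 hspan)
    choose ca hca a₀ ha₀ using fun i => exists_lift p ψ hψ (a i)
    let D : B := ∏ i, ca i * cf i
    have hD : D ∉ p := prod_notMem p _ fun i h => (Ideal.IsPrime.mem_or_mem ‹_› h).elim (hca i) (hcf i)
    choose e he using fun i => Finset.dvd_prod_of_mem (fun i => ca i * cf i) (Finset.mem_univ i)
    let z : Q₀ := ∑ i, e i • (a₀ i * f₀ i)
    have hz : ψ z = algebraMap B _ D := by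
      simp only [z, map_sum ψ, map_smul ψ, map_mul ψ, ha₀, hf₀, smul_mul_smul_comm, smul_smul]
      rw [← mul_one (algebraMap B _ D), ← ha, Finset.mul_sum]
      refine Finset.sum_congr rfl fun i _ => ?_
      rw [← Algebra.smul_def, show D = ca i * cf i * e i from he i, mul_comm (e i)]
    let S := Localization (Algebra.algebraMapSubmonoid Q₀ p.primeCompl)
    letI : CommRing S := inferInstanceAs (CommRing (Localization (Algebra.algebraMapSubmonoid Q₀ p.primeCompl)))
    haveI : Subsingleton (R₀ →ₐ[B] S) := IsLocalization.algHom_subsingleton (Submonoid.powers b₀)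
    obtain ⟨θ, hθ⟩ := exists_extend (S := S) p g₀ hs₀ (IsScalarTower.toAlgHom B Q₀ S) (fun c hc => by
      rw [IsScalarTower.algebraMap_apply B Q₀ S]
      exact IsLocalization.map_units S (⟨_, c, hc, rfl⟩ : Algebra.algebraMapSubmonoid Q₀ p.primeCompl)) ψ hψ
    have hzS : algebraMap Q₀ S z = algebraMap Q₀ S (algebraMap B Q₀ D) := by
      rw [← IsScalarTower.algebraMap_apply B Q₀ S, ← θ.commutes, ← hz]
      exact (DFunLike.congr_fun hθ z).symm
    obtain ⟨⟨_, c, hc, rfl⟩, hcz⟩ := (IsLocalization.eq_iff_exists (Algebra.algebraMapSubmonoid Q₀ p.primeCompl) S).1 hzS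
    refine ⟨c * D, fun h => (Ideal.IsPrime.mem_or_mem ‹_› h).elim hc hD, ?_⟩
    rw [map_mul, ← hcz]
    refine Ideal.mul_mem_left _ _ (Ideal.sum_mem _ fun i _ => ?_)
    exact Submodule.smul_of_tower_mem _ _ (Ideal.mul_mem_left _ _ (Ideal.subset_span ⟨i, rfl⟩))
  -- the congruences
  have hcong : ∀ i, ∃ (c c' : B) (w : Matrix (Fin n) (Fin n) (Localization.Away (f₀ i) ⊗[B] A)), c ∉ p ∧ c' ∉ p ∧
      c' • form (Localization.Away (f₀ i)) lam h w =
        (c' * (c * c)) • h'.map (Algebra.TensorProduct.includeRight : A →ₐ[B] Localization.Away (f₀ i) ⊗[B] A) := by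
    intro i
    let C₀ := Localization.Away (f₀ i)
    let Cp := Localization (Algebra.algebraMapSubmonoid C₀ p.primeCompl)
    let χ : Q₀ →ₐ[B] Cp := (IsScalarTower.toAlgHom B C₀ Cp).comp (IsScalarTower.toAlgHom B Q₀ C₀)
    haveI : Subsingleton (R₀ →ₐ[B] Cp) := IsLocalization.algHom_subsingleton (Submonoid.powers b₀)
    obtain ⟨θ, hθ⟩ := exists_extend p g₀ hs₀ χ (fun c hc => by
      rw [IsScalarTower.algebraMap_apply B C₀ Cp]
      exact IsLocalization.map_units Cp (⟨_, c, hc, rfl⟩ : Algebra.algebraMapSubmonoid C₀ p.primeCompl)) ψ hψ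
    have hfu : IsUnit (θ (f i)) := by
      have h1 : IsUnit (χ (f₀ i)) := (IsLocalization.Away.algebraMap_isUnit (f₀ i)).map (IsScalarTower.toAlgHom B C₀ Cp)
      rw [← hθ, AlgHom.comp_apply, hf₀, map_smul, Algebra.smul_def] at h1
      exact isUnit_of_mul_isUnit_right h1
    let θ' : Localization.Away (f i) →ₐ[B] Cp := IsLocalization.liftAlgHom (M := Submonoid.powers (f i))
      (f := θ) fun y => by
        obtain ⟨y, e, rfl⟩ := y
        simpa using hfu.pow e
    obtain ⟨v, -, hv⟩ := hf i (Localization.Away (f i))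
    refine descend p lam h h' (v.map (Algebra.TensorProduct.map θ' (AlgHom.id B A))) ?_
    rw [← form_map, hv]
    ext x y; simp
  choose cc cc' w hcc hcc' hw using hcong
  let D : B := ∏ i, cc i * cc' i
  have hD : D ∉ p := prod_notMem p _ fun i h => (Ideal.IsPrime.mem_or_mem ‹_› h).elim (hcc i) (hcc' i)
  let b : B := b₀ * cd * D
  have hb : b ∉ p := fun h => (Ideal.IsPrime.mem_or_mem ‹_› h).elim
    (fun h => (Ideal.IsPrime.mem_or_mem ‹_› h).elim hb₀ hcd) hD
  let R := Localization.Away b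
  have hbu : IsUnit (algebraMap B R b₀) ∧ IsUnit (algebraMap B R cd) ∧ IsUnit (algebraMap B R D) := by
    have := IsLocalization.Away.algebraMap_isUnit (S := R) b
    simp only [b, map_mul, IsUnit.mul_iff] at this
    exact ⟨this.1.1, this.1.2, this.2⟩
  let g : R₀ →ₐ[B] R := IsLocalization.liftAlgHom (M := Submonoid.powers b₀) (f := Algebra.ofId B R) fun y => by
    obtain ⟨y, e, rfl⟩ := y
    simpa using hbu.1.pow e
  let s' : Fin l → Rˣ := fun k => Units.map g.toRingHom.toMonoidHom (s₀ k)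
  let Q' := Q fun k => (s' k : R)
  obtain ⟨π, -, -⟩ := exists_hom (S := Q') (fun k => (s₀ k : R₀)) ((IsScalarTower.toAlgHom B R Q').comp g)
    (fun k => Ideal.Quotient.mk _ (MvPolynomial.X k)) fun k => sq_X (B := B) (fun k => (s' k : R)) k
  refine ⟨b, hb, l, s', r, fun i => π (f₀ i), ?_, fun i C _ _ _ _ _ => ?_⟩
  · refine Ideal.eq_top_of_isUnit_mem _ ?_ (hbu.2.1.map (IsScalarTower.toAlgHom B R (Q fun k => (s' k : R))))
    have h2 : π (algebraMap B Q₀ cd) ∈ Ideal.span (Set.range fun i => π (f₀ i)) := by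
      have := Ideal.mem_map_of_mem π.toRingHom hone
      rwa [Ideal.map_span, ← Set.range_comp] at this
    rw [AlgHom.commutes] at h2
    rwa [AlgHom.commutes]
  · let χ : Q₀ →ₐ[B] C := (IsScalarTower.toAlgHom B (Q fun k => (s' k : R)) C).comp π
    let φ : Localization.Away (f₀ i) →ₐ[B] C := IsLocalization.liftAlgHom (M := Submonoid.powers (f₀ i))
      (f := χ) fun y => by
        obtain ⟨y, e, rfl⟩ := y
        simpa [χ] using (IsLocalization.Away.algebraMap_isUnit (S := C) (π (f₀ i))).pow e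
    have hu : IsUnit (algebraMap B C D) := by
      have := hbu.2.2.map ((IsScalarTower.toAlgHom B (Q fun k => (s' k : R)) C).comp
        (IsScalarTower.toAlgHom B R (Q fun k => (s' k : R))))
      rwa [AlgHom.commutes] at this
    have hdvd := isUnit_of_dvd_unit (map_dvd (algebraMap B C)
      (Finset.dvd_prod_of_mem (fun i => cc i * cc' i) (Finset.mem_univ i))) hu
    rw [map_mul, IsUnit.mul_iff] at hdvd
    exact exists_congr φ lam h h' hh' hdvd.1 hdvd.2 (w i) (hw i)

end Groth.Agent.RInvSpread
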